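import Cfsg.Agent.H78.DegP.Defs
import Cfsg.Agent.H58.PrimeSylow
import Cfsg.Agent.H13.Correspondence
import Cfsg.Agent.H12.Linear
import Cfsg.Agent.H14.GoingDown
import Cfsg.Agent.H14.DegreeIndex
import Cfsg.Agent.H62.Basic
import Cfsg.Agent.H37.SmallIso
import Cfsg.Agent.S0806

/-!
S4724: reduction of a transitive group of prime degree to the simple setting, and the final step.
-/

set_option autoImplicit false
set_option linter.unusedSectionVars false
set_option linter.style.haveILetI false

open Cfsg
open scoped ComplexConjugate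

namespace H13.DegP

universe u

/-- A subgroup of prime order of a permutation group of that degree is its own centraliser. -/
theorem centralizer_eq {α : Type u} [Fintype α] [DecidableEq α] {p : ℕ} [Fact p.Prime]
    (hα : Fintype.card α = p) (G : Subgroup (Equiv.Perm α)) (P : Subgroup G)
    (hP : Nat.card P = p) : Subgroup.centralizer (P : Set G) = P := by
  classical
  have hp : p.Prime := Fact.out
  haveI : IsCyclic P := isCyclic_of_prime_card hP
  obtain ⟨x, hx, hx1⟩ := P.bot_or_exists_ne_one.resolve_left (by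
    intro h; rw [h, Subgroup.card_bot] at hP; exact hp.one_lt.ne hP)
  obtain ⟨a, ha⟩ : ∃ a, (x : Equiv.Perm α) a ≠ a := by
    by_contra! hh
    exact hx1 (Subtype.ext (Equiv.ext hh))
  let f : P → α := fun y => ((y : G) : Equiv.Perm α) a
  have hbij : Function.Bijective f := by
    rw [Nat.bijective_iff_injective_and_card]
    refine ⟨fun y z hyz => ?_, by rw [hP, Nat.card_eq_fintype_card, hα]⟩
    by_contra hne
    let S : Subgroup P :=
      { carrier := {w | ((w : G) : Equiv.Perm α) a = a}
        one_mem' := rfl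
        mul_mem' := fun {v w} hv hw => by
          have hv' : ((v : G) : Equiv.Perm α) a = a := hv
          have hw' : ((w : G) : Equiv.Perm α) a = a := hw
          show ((v : G) : Equiv.Perm α) (((w : G) : Equiv.Perm α) a) = a
          rw [hw', hv']
        inv_mem' := fun {v} hv => by
          have hv' : ((v : G) : Equiv.Perm α) a = a := hv
          show ((v : G) : Equiv.Perm α)⁻¹ a = a
          conv_lhs => rw [← hv']
          simp }
    have hS : z⁻¹ * y ∈ S := by
      show ((z : G) : Equiv.Perm α)⁻¹ (((y : G) : Equiv.Perm α) a) = a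
      rw [show ((y : G) : Equiv.Perm α) a = ((z : G) : Equiv.Perm α) a from hyz]
      simp
    haveI := isSimpleGroup_of_prime_card hP
    haveI : IsMulCommutative P := inferInstance
    rcases (Subgroup.normal_of_isMulCommutative S).eq_bot_or_eq_top with h | h
    · rw [h, Subgroup.mem_bot, inv_mul_eq_one] at hS
      exact hne hS.symm
    · exact ha (h ▸ Subgroup.mem_top (⟨x, hx⟩ : P) : (⟨x, hx⟩ : P) ∈ S)
  refine le_antisymm (fun g hg => ?_) (fun g hg => Subgroup.mem_centralizer_iff.2 fun z hz => by
    exact congrArg Subtype.val (mul_comm' (⟨z, hz⟩ : P) ⟨g, hg⟩))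
  obtain ⟨y, hy⟩ := hbij.2 ((g : Equiv.Perm α) a)
  suffices g = y by rw [this]; exact y.2
  refine Subtype.ext (Equiv.ext fun b => ?_)
  obtain ⟨z, rfl⟩ := hbij.2 b
  have h1 : (g : Equiv.Perm α) * ((z : G) : Equiv.Perm α) = ((z : G) : Equiv.Perm α) * g :=
    congrArg Subtype.val (Subgroup.mem_centralizer_iff.1 hg (z : G) z.2).symm
  have h2 : ((y : G) : Equiv.Perm α) * ((z : G) : Equiv.Perm α) = ((z : G) : Equiv.Perm α) * (y : G) :=
    congrArg (fun w : P => ((w : G) : Equiv.Perm α)) (mul_comm' y z)
  calc (g : Equiv.Perm α) (((z : G) : Equiv.Perm α) a)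
      = ((g : Equiv.Perm α) * ((z : G) : Equiv.Perm α)) a := rfl
    _ = ((z : G) : Equiv.Perm α) ((g : Equiv.Perm α) a) := by rw [h1]; rfl
    _ = ((z : G) : Equiv.Perm α) (((y : G) : Equiv.Perm α) a) := congrArg _ hy.symm
    _ = ((y : G) : Equiv.Perm α) (((z : G) : Equiv.Perm α) a) := by
      rw [← Equiv.Perm.mul_apply, ← Equiv.Perm.mul_apply, h2]

theorem normal_eq_top {G : Type u} [Group G] [Finite G] {p : ℕ} (hp : p.Prime)
    (hu : ∃! χ : IrrCharacter G, charDegree (χ : G → ℂ) = p) (N : Subgroup G) [N.Normal]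
    (hcyc : IsCyclic (G ⧸ N)) (hlt : N.index < p) : N = ⊤ := by
  classical
  haveI := Fintype.ofFinite G
  haveI := Fintype.ofFinite N
  obtain ⟨χ, hχ, huniq⟩ := hu
  haveI : IsMulCommutative (G ⧸ N) := inferInstance
  letI : CommGroup (G ⧸ N) := { (inferInstance : Group (G ⧸ N)) with mul_comm := mul_comm' }
  have hvan : ∀ g : G, g ∉ N → (χ : G → ℂ) g = 0 := by
    intro g hg
    obtain ⟨ψ, hψ⟩ := (CommGroup.exists_apply_ne_one_of_hasEnoughRootsOfUnity (G ⧸ N) ℂ
      (a := (g : G ⧸ N)) (fun h => hg ((QuotientGroup.eq_one_iff g).1 h)))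
    let l : G →* ℂˣ := ψ.comp (QuotientGroup.mk' N)
    have hirr : IsIrrCharacter G (fun x => (l x : ℂ) * (χ : G → ℂ) x) :=
      H14.linear_mul_irr l χ.2
    have hdeg : charDegree (fun x => (l x : ℂ) * (χ : G → ℂ) x) = p := by
      rw [← hχ]
      simp [charDegree]
    have heq : (⟨_, hirr⟩ : IrrCharacter G) = χ := huniq _ hdeg
    have h := congrFun (congrArg Subtype.val heq) g
    simp only at h
    by_contra hne
    exact hψ (Units.ext (mul_right_cancel₀ hne (h.trans (one_mul _).symm)))
  have h1 : (χ : G → ℂ) 1 = (p : ℂ) := by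
    rw [← hχ]; exact H12.IsCharacter.apply_one_eq_degree (H12.isCharacter_irr χ)
  have hnorm : classInner (fun n : N => (χ : G → ℂ) n) (fun n : N => (χ : G → ℂ) n) =
      (N.index : ℂ) := by
    have hs : ∑ n : N, (χ : G → ℂ) n * conj ((χ : G → ℂ) n) =
        ∑ g : G, (χ : G → ℂ) g * conj ((χ : G → ℂ) g) := by
      rw [← Finset.sum_subtype (Finset.univ.filter fun g : G => g ∈ N) (by simp)
        (fun g => (χ : G → ℂ) g * conj ((χ : G → ℂ) g))]
      exact Finset.sum_subset (Finset.subset_univ _) fun g _ hg => by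
        rw [hvan g (by simpa using hg), zero_mul]
    rw [H12.classInner_def, hs, H12.sum_mul_conj_eq_card_mul, H12.classInner_irr_self, mul_one,
      ← N.card_mul_index, Nat.cast_mul, inv_mul_cancel_left₀ H12.card_ne_zero']
  obtain ⟨θ, hθ⟩ := H13.exists_constituent N (H12.isCharacter_irr χ) (H12.irr_ne_zero χ)
  have hdeg := H13.clifford_degree N χ.2 θ.2 hθ
  obtain ⟨e, he⟩ := H12.IsCharacter.classInner_nat
    (H12.IsCharacter.res (H12.isCharacter_irr χ) N) (H12.isCharacter_irr θ)
  rw [h1, he, H12.IsCharacter.apply_one_eq_degree (H12.isCharacter_irr θ)] at hdeg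
  have hdeg' : p = e * (H13.inertia N (θ : N → ℂ)).index * H12.degree (θ : N → ℂ) := by
    exact_mod_cast hdeg
  have htd : (H13.inertia N (θ : N → ℂ)).index ∣ N.index := Subgroup.index_dvd_of_le
    (H13.le_inertia N (H12.IsCharacter.isClassFunction (H12.isCharacter_irr θ)))
  have hd0 : N.index ≠ 0 := Subgroup.index_ne_zero_of_finite
  have ht : (H13.inertia N (θ : N → ℂ)).index = 1 := by
    rcases (Nat.dvd_prime hp).1 (Dvd.intro_left e rfl |>.trans
      (Dvd.intro (H12.degree (θ : N → ℂ)) hdeg'.symm)) with h | h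
    · exact h
    · have := Nat.le_of_dvd (Nat.pos_of_ne_zero hd0) htd
      omega
  rw [Subgroup.index_eq_one] at ht
  have hinv : ∀ x : G, H13.twist N x (θ : N → ℂ) = θ := fun x =>
    (H13.mem_inertia N).1 (ht ▸ Subgroup.mem_top x)
  have hres := H13.clifford_res N χ.2 θ.2 hθ {θ} (fun ψ => by
    simp only [Finset.mem_singleton]
    constructor
    · rintro rfl; exact ⟨1, hinv 1⟩
    · rintro ⟨x, hx⟩; exact Subtype.ext (hx.symm.trans (hinv x)))
  rw [Finset.sum_singleton, he] at hres
  rw [hres, H12.classInner_smul_left, H12.classInner_smul_right, H12.classInner_irr_self,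
    mul_one, map_natCast, ← Nat.cast_mul, Nat.cast_inj] at hnorm
  rw [ht, Subgroup.index_top, mul_one] at hdeg'
  rcases (Nat.dvd_prime hp).1 (Dvd.intro (H12.degree (θ : N → ℂ)) hdeg'.symm) with h | h
  · rw [h] at hnorm
    exact Subgroup.index_eq_one.1 hnorm.symm
  · rw [h] at hnorm
    have := Nat.le_mul_of_pos_left p hp.pos
    omega

theorem setup : H78.DegP.SetupStmt.{u} := by
  intro α _ _ p _ hα G _ hu P E hsup hinf hNE hTI
  classical
  have hp : p.Prime := Fact.out
  haveI : Nonempty α := Fintype.card_pos_iff.mp (hα ▸ hp.pos)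
  have hcP := H58.card_sylow_of_prime_degree hα G P
  have hsq := H58.not_sq_dvd_card hα G
  have hcent := centralizer_eq hα G (P : Subgroup G) hcP
  -- `E` embeds in the automorphism group of `P`
  have hEN : E ≤ Subgroup.normalizer ((P : Subgroup G) : Set G) := hsup ▸ le_sup_right
  haveI : IsCyclic (P : Subgroup G) := isCyclic_of_prime_card hcP
  let f : E →* MulAut (P : Subgroup G) :=
    (Subgroup.normalizerMonoidHom (P : Subgroup G)).comp (Subgroup.inclusion hEN)
  have hf : Function.Injective f := by
    rw [← MonoidHom.ker_eq_bot_iff, eq_bot_iff]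
    intro x hx
    rw [MonoidHom.mem_ker] at hx
    have h1 : Subgroup.inclusion hEN x ∈ (Subgroup.normalizerMonoidHom (P : Subgroup G)).ker := hx
    rw [Subgroup.normalizerMonoidHom_ker, Subgroup.mem_subgroupOf, hcent] at h1
    have h2 : (x : G) ∈ (P : Subgroup G) ⊓ E := ⟨h1, x.2⟩
    rw [hinf, Subgroup.mem_bot] at h2
    rw [Subgroup.mem_bot]
    exact Subtype.ext h2
  let θ : MulAut (P : Subgroup G) ≃* (ZMod p)ˣ :=
    (IsCyclic.mulAutMulEquiv (P : Subgroup G)).trans
      (Units.mapEquiv (ZMod.ringEquivCongr hcP).toMulEquiv)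
  have hcyc : IsCyclic E :=
    isCyclic_of_injective (θ.toMonoidHom.comp f) (θ.injective.comp hf)
  have hdvd : Nat.card E ∣ p - 1 := by
    have h := Subgroup.card_dvd_of_injective (θ.toMonoidHom.comp f) (θ.injective.comp hf)
    rwa [Nat.card_eq_fintype_card (α := (ZMod p)ˣ), ZMod.card_units] at h
  have hp1 : 1 < p := hp.one_lt
  have hEp : Nat.card E < p := by
    have := Nat.le_of_dvd (by omega) hdvd
    omega
  -- the Sylow subgroup is not normal
  have hPn : ¬ (P : Subgroup G).Normal := by
    intro hn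
    obtain ⟨χ, hχ, -⟩ := hu
    have hcop : Nat.Coprime (Nat.card (P : Subgroup G)) (P : Subgroup G).index := by
      rw [hcP, hp.coprime_iff_not_dvd]
      intro h
      apply hsq
      have h2 := (P : Subgroup G).card_mul_index
      rw [hcP] at h2
      rw [← h2, sq]
      exact Nat.mul_dvd_mul_left p h
    have h := H14.degree_dvd_index_of_abelian_coprime (P : Subgroup G)
      (fun a ha b hb => congrArg Subtype.val (mul_comm' (⟨a, ha⟩ : (P : Subgroup G)) ⟨b, hb⟩))
      hcop χ
    rw [show H12.degree (χ : G → ℂ) = p from hχ] at h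
    rw [hcP, hp.coprime_iff_not_dvd] at hcop
    exact hcop h
  have hge : ∀ N : Subgroup G, N.Normal → N ≠ ⊥ → (P : Subgroup G) ≤ N := by
    intro N hN hN1
    have hpN : p ∣ Nat.card N := by
      by_contra hnd
      apply hN1
      rw [eq_bot_iff]
      intro g hg
      rw [Subgroup.mem_bot]
      refine Subtype.ext (Equiv.ext fun a => ?_)
      set H := MulAction.stabilizer G a
      have hH : H.index = p := by
        rw [MulAction.index_stabilizer_of_transitive, Nat.card_eq_fintype_card, hα]
      have h1 : H.relIndex (H ⊔ N) * (H ⊔ N).index = p := by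
        rw [Subgroup.relIndex_mul_index le_sup_left, hH]
      rcases (Nat.dvd_prime hp).1 (Dvd.intro _ h1) with h | h
      · have hle : N ≤ H := le_sup_right.trans (Subgroup.relIndex_eq_one.1 h)
        exact (hle hg : g • a = a)
      · exfalso
        apply hnd
        have e1 := Subgroup.relIndex_mul_relIndex ⊥ H (H ⊔ N) bot_le le_sup_left
        have e2 := Subgroup.relIndex_mul_relIndex ⊥ N (H ⊔ N) bot_le le_sup_right
        have e3 := Subgroup.relIndex_mul_relIndex ⊥ (N ⊓ H) H bot_le inf_le_right
        rw [h, Subgroup.relIndex_bot_left, Subgroup.relIndex_bot_left] at e1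
        rw [Subgroup.relIndex_bot_left, Subgroup.relIndex_bot_left, Subgroup.relIndex_sup_right] at e2
        rw [Subgroup.relIndex_bot_left, Subgroup.relIndex_bot_left, Subgroup.inf_relIndex_right] at e3
        rw [← e1, ← e3, mul_comm (Nat.card N), mul_comm (Nat.card (N ⊓ H : Subgroup G)), mul_assoc]
          at e2
        rw [Nat.eq_of_mul_eq_mul_left (Nat.pos_of_ne_zero fun h0 => by
          rw [h0, mul_zero] at e3; exact Nat.card_pos.ne e3) e2]
        exact dvd_mul_left p _
    obtain ⟨x, hx⟩ := exists_prime_orderOf_dvd_card' p hpN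
    have hx' : Nat.card (Subgroup.zpowers (x : G)) = p := by
      rw [Nat.card_zpowers, Subgroup.orderOf_coe, hx]
    obtain ⟨Q, hQ⟩ := (IsPGroup.of_card (n := 1) (by rw [hx', pow_one]) :
      IsPGroup p (Subgroup.zpowers (x : G))).exists_le_sylow
    have hQN : (Q : Subgroup G) ≤ N := by
      rw [← Subgroup.eq_of_le_of_card_ge hQ (by rw [hx', H58.card_sylow_of_prime_degree hα G Q]),
        Subgroup.zpowers_le]
      exact x.2
    obtain ⟨g, hg⟩ := MulAction.exists_smul_eq G Q P
    intro y hy
    rw [← hg] at hy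
    obtain ⟨z, hz, rfl⟩ := hy
    exact hN.conj_mem z (hQN hz) g
  -- every non-trivial normal subgroup is everything
  have hsimple : IsSimpleGroup G := by
    haveI : Nontrivial G := ⟨⟨1, by
      obtain ⟨x, -, hx1⟩ := (P : Subgroup G).bot_or_exists_ne_one.resolve_left (fun h => by
        rw [h, Subgroup.card_bot] at hcP; exact hp.one_lt.ne hcP)
      exact ⟨x, hx1.symm⟩⟩⟩
    refine ⟨fun N hN => or_iff_not_imp_left.2 fun hN1 => ?_⟩
    have hPN := hge N hN hN1
    have htop : E ⊔ N = ⊤ := by
      rw [eq_top_iff, ← Sylow.normalizer_sup_eq_top (P.subtype hPN)]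
      refine sup_le ?_ le_sup_right
      rw [Sylow.coe_subtype, Subgroup.subgroupOf_map_subtype, inf_eq_left.2 hPN, ← hsup]
      exact sup_le (hPN.trans le_sup_right) le_sup_left
    have hsurj : Function.Surjective ((QuotientGroup.mk' N).comp E.subtype) := by
      intro y
      obtain ⟨g, rfl⟩ := QuotientGroup.mk'_surjective N y
      have hg : g ∈ E ⊔ N := htop ▸ Subgroup.mem_top g
      rw [Subgroup.mem_sup_of_normal_right] at hg
      obtain ⟨e, he, n, hn, rfl⟩ := hg
      exact ⟨⟨e, he⟩, QuotientGroup.eq.2 (by simpa using hn)⟩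
    refine normal_eq_top hp hu N (isCyclic_of_surjective _ hsurj) ?_
    exact lt_of_le_of_lt (Nat.card_le_card_of_surjective _ hsurj) hEp
  have hnab : ∃ a b : G, a * b ≠ b * a := by
    by_contra! h
    exact hPn ⟨fun n hn g => by rwa [h g n, mul_inv_cancel_right]⟩
  have htwo : 2 ≤ Nat.card E := by
    by_contra h
    have hE : E = ⊥ := Subgroup.card_eq_one.1 (by
      have := Nat.card_pos (α := E); omega)
    have hN : Subgroup.normalizer ((P : Subgroup G) : Set G) = P := by
      rw [← hsup, hE, sup_bot_eq]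
    have hle : Subgroup.normalizer ((P : Subgroup G) : Set G) ≤
        Subgroup.centralizer ((P : Subgroup G) : Set G) := by rw [hN, hcent]
    have hc := MonoidHom.ker_transferSylow_isComplement' P hle
    rcases hsimple.eq_bot_or_eq_top_of_normal _ (MonoidHom.normal_ker (MonoidHom.transferSylow P hle)) with hk | hk
    · rw [hk, Subgroup.isComplement'_bot_left] at hc
      exact hPn (hc ▸ inferInstance)
    · rw [hk, Subgroup.isComplement'_top_left] at hc
      rw [hc, Subgroup.card_bot] at hcP
      exact hp.one_lt.ne hcP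
  refine
    { simple := hsimple
      nonabelian := hnab
      card_P := hcP
      not_sq := hsq
      cent_P := hcent
      sup_eq := hsup
      inf_eq := hinf
      cyclic := hcyc
      two_le := htwo
      dvd_pred := hdvd
      card_normalizer := hNE
      ti := hTI
      unique_deg := hu
      index_p := ?_ }
  obtain ⟨a⟩ := (inferInstance : Nonempty α)
  exact ⟨MulAction.stabilizer G a, by
    rw [MulAction.index_stabilizer_of_transitive, Nat.card_eq_fintype_card, hα]⟩

/-- The final step. -/
theorem finish_odd {G : Type u} [Group G] [Finite G] {p : ℕ} [Fact p.Prime] {P : Sylow p G}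
    {E : Subgroup G} (h : H78.DegP.Hyp p P E) (F : Type) [Field F] [Fintype F]
    (hodd : Odd (Fintype.card F))
    (hiso : Nonempty (G ≃* Matrix.ProjectiveSpecialLinearGroup (Fin 2) F)) :
    (p = 5 ∨ p = 7 ∨ p = 11) ∧ ∃ (K : Type) (_ : Field K) (_ : Fintype K), Fintype.card K = p ∧
      Nonempty (G ≃* Matrix.ProjectiveSpecialLinearGroup (Fin 2) K) := by
  classical
  obtain ⟨φ⟩ := hiso
  have hp : p.Prime := Fact.out
  haveI := h.simple
  obtain ⟨H, hH⟩ := h.index_p
  have hHtop : H ≠ ⊤ := by
    intro e; rw [e, Subgroup.index_top] at hH; exact hp.one_lt.ne hH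
  have hnc : ¬ IsMulCommutative G := by
    obtain ⟨a, b, hab⟩ := h.nonabelian
    exact fun hc => hab (hc.1.comm a b)
  have hfac := H62.two_mul_card_dvd_factorial hnc H hHtop
  rw [hH] at hfac
  have hpdvd : p ∣ Nat.card G := h.card_P ▸ Subgroup.card_subgroup_dvd_card _
  have hcard := H37.card_PSL_two (F := F)
  rw [← Nat.card_congr φ.toEquiv, Nat.card_eq_fintype_card (α := F)] at hcard
  set q := Fintype.card F with hq
  have hq2 : 2 ≤ q := Fintype.one_lt_card
  have hg : Nat.gcd 2 (q - 1) = 2 := by
    obtain ⟨k, hk⟩ := hodd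
    exact Nat.gcd_eq_left ⟨k, by omega⟩
  rw [hg] at hcard
  have hpq : p ∣ q * (q ^ 2 - 1) := hcard ▸ hpdvd.mul_left 2
  have hle : p ≤ q + 1 := by
    rcases hp.dvd_mul.1 hpq with h1 | h1
    · exact (Nat.le_of_dvd (by omega) h1).trans (by omega)
    · rw [show q ^ 2 - 1 = (q + 1) * (q - 1) from Nat.sq_sub_sq q 1 ▸ by ring] at h1
      rcases hp.dvd_mul.1 h1 with h2 | h2
      · exact Nat.le_of_dvd (by omega) h2
      · exact (Nat.le_of_dvd (by omega) h2).trans (by omega)
  by_cases hqs : q ∈ ({2, 3, 5, 7, 9, 11} : Finset ℕ)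
  · have hres : p = q ∧ (p = 5 ∨ p = 7 ∨ p = 11) := by
      obtain ⟨k, hk⟩ := hodd
      simp only [Finset.mem_insert, Finset.mem_singleton] at hqs
      rcases hqs with e | e | e | e | e | e
      · omega
      all_goals
        rw [e] at hcard hle ⊢
        generalize Nat.card G = n at hcard hfac hpdvd
        norm_num at hcard
        have hn : n = 2 * n / 2 := by omega
        rw [hcard] at hn
        norm_num at hn
        subst hn
        interval_cases p <;> simp_all (config := { decide := true })
    exact ⟨hres.2, F, inferInstance, inferInstance, hres.1.symm, ⟨φ⟩⟩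
  · exfalso
    have hmin := (Cfsg.Agent.S0806.result (F := F) rfl hqs).1 (H.map φ.toMonoidHom) ?_
    · have hidx : (H.map φ.toMonoidHom).index = p := by
        rw [← hH]; exact Subgroup.index_map_equiv H φ
      rw [hidx] at hmin
      have hpe : p = q + 1 := le_antisymm hle hmin
      obtain ⟨k, hk⟩ := hodd
      have := hp.eq_one_or_self_of_dvd 2 ⟨k + 1, by omega⟩
      omega
    · intro e
      apply hHtop
      have h2 : (H.map φ.toMonoidHom).index = 1 := by rw [e, Subgroup.index_top]
      rw [show (H.map φ.toMonoidHom).index = H.index from Subgroup.index_map_equiv H φ] at h2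
      exact Subgroup.index_eq_one.1 h2

theorem finish : H78.DegP.FinishStmt.{u} := by
  intro G _ _ p _ P E h F _ _ hodd hiso
  exact finish_odd h F hodd hiso

end H13.DegP
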